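import Groth.Agent.LRSImm.K591.SheafFac
import Groth.Prelude.Def_W4stkremschemesLRS

/-!
# Factoring morphisms of locally ringed spaces through closed immersions
-/

set_option autoImplicit false
universe u

open CategoryTheory TopologicalSpace Opposite TopCat AlgebraicGeometry

namespace K591.Fac

open SheafFac

section full

variable {A B : TopCat.{u}} {j : A ⟶ B} (hj : Topology.IsInducing j)

include hj in
/-- Pushforward of presheaves along an inducing map is full. -/
theorem exists_pushforward_map_eq {P Q : TopCat.Presheaf CommRingCat.{u} A}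
    (χ : (TopCat.Presheaf.pushforward CommRingCat j).obj P ⟶ (TopCat.Presheaf.pushforward CommRingCat j).obj Q) :
    ∃ θ : P ⟶ Q, (TopCat.Presheaf.pushforward CommRingCat j).map θ = χ := by
  let e : ∀ W : Opens A, W = (Opens.map j).obj (hj.functorObj W) := fun W => (hj.map_functorObj W).symm
  refine ⟨⟨fun W => P.map (homOfLE (e W.unop).ge).op ≫ χ.app (op (hj.functorObj W.unop)) ≫
    Q.map (homOfLE (e W.unop).le).op, fun W W' i => ?_⟩, ?_⟩
  · have hle : hj.functorObj W'.unop ≤ hj.functorObj W.unop := (hj.functor.map i.unop).le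
    have h1 : P.map ((Opens.map j).map (homOfLE hle)).op ≫ χ.app (op (hj.functorObj W'.unop)) =
        χ.app (op (hj.functorObj W.unop)) ≫ Q.map ((Opens.map j).map (homOfLE hle)).op :=
      χ.naturality (homOfLE hle).op
    have h2 : P.map i ≫ P.map (homOfLE (e W'.unop).ge).op =
        P.map (homOfLE (e W.unop).ge).op ≫ P.map ((Opens.map j).map (homOfLE hle)).op := by
      rw [← P.map_comp, ← P.map_comp]
      rfl
    have h3 : Q.map (homOfLE (e W.unop).le).op ≫ Q.map i =
        Q.map ((Opens.map j).map (homOfLE hle)).op ≫ Q.map (homOfLE (e W'.unop).le).op := by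
      rw [← Q.map_comp, ← Q.map_comp]
      rfl
    rw [reassoc_of% h2, reassoc_of% h1, Category.assoc, Category.assoc, h3]
  · refine NatTrans.ext (funext fun V => ?_)
    induction V with | op V => ?_
    have hV : V ≤ hj.functorObj ((Opens.map j).obj V) := hj.le_functorObj_iff.mpr le_rfl
    have h1 : P.map ((Opens.map j).map (homOfLE hV)).op ≫ χ.app (op V) =
        χ.app (op (hj.functorObj ((Opens.map j).obj V))) ≫ Q.map ((Opens.map j).map (homOfLE hV)).op :=
      χ.naturality (homOfLE hV).op
    change P.map (homOfLE (e ((Opens.map j).obj V)).ge).op ≫ χ.app (op (hj.functorObj ((Opens.map j).obj V))) ≫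
      Q.map (homOfLE (e ((Opens.map j).obj V)).le).op = χ.app (op V)
    have h2 : Q.map (homOfLE (e ((Opens.map j).obj V)).le).op = Q.map ((Opens.map j).map (homOfLE hV)).op := rfl
    rw [h2, ← h1, ← Category.assoc, ← P.map_comp]
    have h3 : (homOfLE (e ((Opens.map j).obj V)).ge).op ≫ ((Opens.map j).map (homOfLE hV)).op = 𝟙 _ := rfl
    rw [h3, P.map_id, Category.id_comp]

end full

variable {Z X Y : LocallyRingedSpace.{u}} (i : Z ⟶ X) (hi : Topology.IsClosedEmbedding i.base)
  (hs : TopCat.Presheaf.IsLocallySurjective i.c)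

include hi hs in
theorem stalkMap_surjective (z : Z.toTopCat) : Function.Surjective (i.toHom.stalkMap z).hom := by
  have h1 := (TopCat.Presheaf.locally_surjective_iff_surjective_on_stalks i.c).mp hs (i.base z)
  have h2 : IsIso (TopCat.Presheaf.stalkPushforward CommRingCat i.base Z.presheaf z) :=
    TopCat.Presheaf.stalkPushforward.stalkPushforward_iso_of_isInducing CommRingCat
      hi.isInducing Z.presheaf z
  have h3 : Function.Bijective (TopCat.Presheaf.stalkPushforward CommRingCat i.base Z.presheaf z).hom :=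
    ConcreteCategory.bijective_of_isIso _
  have h4 := h3.2.comp h1
  exact h4

include hi hs in
theorem mono : Mono i := by
  refine LocallyRingedSpace.forgetToSheafedSpace.mono_of_mono_map ?_
  apply SheafedSpace.mono_of_base_injective_of_stalk_epi
  · exact hi.injective
  · exact fun x ↦ ConcreteCategory.epi_of_surjective _ (stalkMap_surjective i hi hs x)

variable (f : Y ⟶ X)
  (H : ∀ (U : Opens X.toTopCat) (s : X.presheaf.obj (op U)), i.c.app (op U) s = 0 → f.c.app (op U) s = 0)

include hi H in
theorem base_mem_range (y : Y.toTopCat) : f.base y ∈ Set.range i.base := by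
  by_contra hy
  let U : Opens X.toTopCat := ⟨(Set.range i.base)ᶜ, hi.isClosed_range.isOpen_compl⟩
  have h1 : i.c.app (op U) 1 = 0 := by
    refine eq_of_local (H := Z.presheaf) Z.IsSheaf (U := (Opens.map i.base).obj U) fun z hz => ?_
    exact absurd ⟨z, rfl⟩ hz
  have h2 := H U 1 h1
  rw [map_one] at h2
  have h3 := congrArg (Y.presheaf.germ ((Opens.map f.base).obj U) y hy) h2
  have h4 : (1 : Y.presheaf.stalk y) = 0 := by
    refine Eq.trans (map_one _).symm (h3.trans (map_zero _))
  exact one_ne_zero h4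

include hi hs H in
theorem exists_lift : ∃ g : Y ⟶ Z, g ≫ i = f := by
  have hr := base_mem_range i hi f H
  choose g hg using hr
  have hgc : Continuous g := by
    rw [hi.isInducing.continuous_iff]
    have : i.base ∘ g = f.base := funext hg
    rw [this]
    exact f.base.hom.continuous
  obtain ⟨gb, hgb⟩ : ∃ gb : Y.toTopCat ⟶ Z.toTopCat, gb ≫ i.base = f.base := ⟨TopCat.ofHom ⟨g, hgc⟩, by
    ext y; exact hg y⟩
  obtain ⟨⟨fb, fc⟩, fprop⟩ := f
  dsimp only at hgb
  subst hgb
  have hsh : TopCat.Presheaf.IsSheaf ((gb ≫ i.base) _* Y.presheaf) :=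
    TopCat.Sheaf.pushforward_sheaf_of_sheaf _ Y.IsSheaf
  obtain ⟨χ, hχ⟩ := exists_fac (ψ := fc) hsh hs H
  obtain ⟨θ, hθ⟩ := exists_pushforward_map_eq (P := Z.presheaf) (Q := gb _* Y.presheaf) hi.isInducing χ
  let g' : Y.toPresheafedSpace.Hom Z.toPresheafedSpace := ⟨gb, θ⟩
  have hcomp : (g' ≫ i.toHom : Y.toPresheafedSpace ⟶ X.toPresheafedSpace) = ⟨gb ≫ i.base, fc⟩ := by
    have h1 : i.c ≫ (TopCat.Presheaf.pushforward CommRingCat i.base).map θ = fc := by
      rw [hθ]; exact hχ
    exact congrArg (fun c => (⟨gb ≫ i.base, c⟩ : Y.toPresheafedSpace.Hom X.toPresheafedSpace)) h1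
  have hstalk : ∀ y : Y.toTopCat, i.toHom.stalkMap (gb y) ≫ g'.stalkMap y =
      PresheafedSpace.Hom.stalkMap (⟨gb ≫ i.base, fc⟩ : Y.toPresheafedSpace.Hom X.toPresheafedSpace) y := by
    intro y
    have h1 := PresheafedSpace.stalkMap.comp g' i.toHom y
    refine h1.symm.trans ?_
    have h2 := PresheafedSpace.stalkMap.congr_hom _ _ hcomp y
    rw [h2]
    simp
  refine ⟨⟨g', fun y => ⟨fun a ha => ?_⟩⟩, ?_⟩
  · obtain ⟨b, rfl⟩ := stalkMap_surjective i hi hs (gb y) a
    have h1 := ConcreteCategory.congr_hom (hstalk y) b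
    have h2 := (fprop y).map_nonunit b
    refine IsUnit.map _ (h2 ?_)
    have h3 : PresheafedSpace.Hom.stalkMap (⟨gb ≫ i.base, fc⟩ : Y.toPresheafedSpace.Hom X.toPresheafedSpace) y b =
      g'.stalkMap y (i.toHom.stalkMap (gb y) b) := h1.symm
    exact (congrArg IsUnit h3).mpr ha
  · exact LocallyRingedSpace.Hom.ext' hcomp

end K591.Fac
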