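import Groth.Agent.LRSImm.K591.Fac
import Mathlib.AlgebraicGeometry.IdealSheaf.Subscheme

/-!
# The kernel of `O_X → G`, locally generated by sections, is a quasi-coherent ideal sheaf (`X` a scheme)
-/

set_option autoImplicit false
universe u

open CategoryTheory TopologicalSpace Opposite TopCat AlgebraicGeometry

namespace K591.KerData

open SheafFac

variable {X : Scheme.{u}} {G : TopCat.Presheaf CommRingCat.{u} X} (φ : X.presheaf ⟶ G)

/-- The kernel of `φ` is generated by sections on `U`, germwise. -/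
def GenOn (U : X.Opens) : Prop :=
  ∃ (ι : Type u) (s : ι → Γ(X, U)), (∀ j, φ.app (op U) (s j) = 0) ∧
    ∀ (x' : X) (hx' : x' ∈ U), Ideal.span (Set.range fun j => X.presheaf.germ U x' hx' (s j)) =
      RingHom.ker ((TopCat.Presheaf.stalkFunctor CommRingCat x').map φ).hom

/-- The kernel of `φ` on `U`. -/
noncomputable def K (U : X.Opens) : Ideal Γ(X, U) := RingHom.ker (φ.app (op U)).hom

theorem mem_K {U : X.Opens} {s : Γ(X, U)} : s ∈ K φ U ↔ φ.app (op U) s = 0 := Iff.rfl

theorem rs_mem_K {U V : X.Opens} (h : V ≤ U) {s : Γ(X, U)} (hs : s ∈ K φ U) : rs X.presheaf h s ∈ K φ V := by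
  rw [mem_K] at hs ⊢
  rw [app_rs, hs, map_zero]

theorem K_eq_span {U : X.Opens} {ι : Type u} {s : ι → Γ(X, U)} (h0 : ∀ j, φ.app (op U) (s j) = 0)
    (hs : ∀ (x' : X) (hx' : x' ∈ U), Ideal.span (Set.range fun j => X.presheaf.germ U x' hx' (s j)) =
      RingHom.ker ((TopCat.Presheaf.stalkFunctor CommRingCat x').map φ).hom) {V : X.Opens} (hV : IsAffineOpen V)
    (h : V ≤ U) : K φ V = Ideal.span (Set.range fun j => rs X.presheaf h (s j)) := by
  apply le_antisymm
  · intro t ht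
    rw [hV.mem_ideal_iff]
    intro x hx
    have h1 : X.presheaf.germ V x hx t ∈ RingHom.ker ((TopCat.Presheaf.stalkFunctor CommRingCat x).map φ).hom := by
      have h2 : ((TopCat.Presheaf.stalkFunctor CommRingCat x).map φ) (X.presheaf.germ V x hx t) =
        G.germ V x hx (φ.app (op V) t) := TopCat.Presheaf.stalkFunctor_map_germ_apply V x hx φ t
      have h3 : φ.app (op V) t = 0 := ht
      rw [h3, map_zero] at h2
      exact h2
    rw [← hs x (h hx)] at h1
    rw [Ideal.map_span]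
    refine Ideal.span_mono ?_ h1
    rintro _ ⟨j, rfl⟩
    refine ⟨_, ⟨j, rfl⟩, ?_⟩
    exact TopCat.Presheaf.germ_res_apply X.presheaf (homOfLE h) x hx (s j)
  · rw [Ideal.span_le]
    rintro _ ⟨j, rfl⟩
    exact rs_mem_K φ h (h0 j)

/-- The image of the basic open for a restricted section. -/
theorem basicOpen_rs_le {U V : X.Opens} (h : V ≤ U) (f : Γ(X, U)) :
    X.basicOpen (rs X.presheaf h f) ≤ X.basicOpen f := by
  have : X.basicOpen (rs X.presheaf h f) = V ⊓ X.basicOpen f := Scheme.basicOpen_res X f (homOfLE h).op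
  rw [this]
  exact inf_le_right

theorem exists_pow_of_genOn {U : X.Opens} (hU : GenOn φ U) {V : X.Opens} (hV : IsAffineOpen V) (h : V ≤ U)
    (f b : Γ(X, V)) (hb : rs X.presheaf (X.basicOpen_le f) b ∈ K φ (X.basicOpen f)) :
    ∃ n : ℕ, f ^ n * b ∈ K φ V := by
  obtain ⟨ι, s, h0, hs⟩ := hU
  have h1 := K_eq_span φ h0 hs hV h
  have h2 := K_eq_span φ h0 hs (hV.basicOpen f) ((X.basicOpen_le f).trans h)
  have h3 := hV.isLocalization_basicOpen f
  have h4 : K φ (X.basicOpen f) = (K φ V).map (algebraMap Γ(X, V) Γ(X, X.basicOpen f)) := by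
    rw [h1, h2, Ideal.map_span]
    congr 1
    ext z
    constructor
    · rintro ⟨j, rfl⟩
      refine ⟨_, ⟨j, rfl⟩, ?_⟩
      exact rs_rs X.presheaf h (X.basicOpen_le f) (s j)
    · rintro ⟨_, ⟨j, rfl⟩, rfl⟩
      exact ⟨j, (rs_rs X.presheaf h (X.basicOpen_le f) (s j)).symm⟩
  rw [h4] at hb
  have h5 := (IsLocalization.algebraMap_mem_map_algebraMap_iff (Submonoid.powers f)
    Γ(X, X.basicOpen f) (K φ V) b).mp hb
  obtain ⟨_, ⟨n, rfl⟩, hn⟩ := h5
  exact ⟨n, hn⟩

variable (hG : G.IsSheaf) (hφ : ∀ x : X, ∃ U : X.Opens, x ∈ U ∧ GenOn φ U)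

include hG hφ in
theorem exists_pow {U : X.Opens} (hU : IsAffineOpen U) (f b : Γ(X, U))
    (hb : rs X.presheaf (X.basicOpen_le f) b ∈ K φ (X.basicOpen f)) : ∃ n : ℕ, f ^ n * b ∈ K φ U := by
  choose W hxW hW using hφ
  have h1 : ∀ x : U, ∃ h : Γ(X, U), X.basicOpen h ≤ W x.1 ∧ x.1 ∈ X.basicOpen h := fun x =>
    hU.exists_basicOpen_le ⟨x.1, hxW x.1⟩ x.2
  choose h hle hxh using h1
  obtain ⟨t, ht⟩ := hU.isCompact.elim_finite_subcover (fun x : U => (X.basicOpen (h x) : Set X))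
    (fun x => (X.basicOpen (h x)).2) (fun x hx => Set.mem_iUnion.mpr ⟨⟨x, hx⟩, hxh ⟨x, hx⟩⟩)
  have h2 : ∀ x : U, ∃ n : ℕ, rs X.presheaf (X.basicOpen_le (h x)) (f ^ n * b) ∈ K φ (X.basicOpen (h x)) := by
    intro x
    obtain ⟨n, hn⟩ := exists_pow_of_genOn φ (hW x.1) (hU.basicOpen (h x)) (hle x)
      (rs X.presheaf (X.basicOpen_le (h x)) f) (rs X.presheaf (X.basicOpen_le (h x)) b) (by
        rw [rs_rs, ← rs_rs X.presheaf (X.basicOpen_le f) (basicOpen_rs_le (X.basicOpen_le (h x)) f)]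
        exact rs_mem_K φ _ hb)
    refine ⟨n, ?_⟩
    rw [map_mul, map_pow]
    exact hn
  choose n hn using h2
  refine ⟨t.sup n, ?_⟩
  rw [mem_K]
  refine eq_of_local hG fun x hx => ?_
  obtain ⟨y, hy⟩ := Set.mem_iUnion.mp (ht hx)
  obtain ⟨hyt, hy⟩ := Set.mem_iUnion.mp hy
  refine ⟨X.basicOpen (h y), X.basicOpen_le _, hy, ?_⟩
  rw [← app_rs, map_zero]
  have h3 : f ^ t.sup n * b = f ^ (t.sup n - n y) * (f ^ n y * b) := by
    rw [← mul_assoc, ← pow_add, Nat.sub_add_cancel (Finset.le_sup hyt)]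
  rw [h3, map_mul]
  exact Ideal.mul_mem_left _ _ (hn y)

include hG hφ in
theorem map_K {U : X.Opens} (hU : IsAffineOpen U) (f : Γ(X, U)) :
    (K φ U).map (X.presheaf.map (homOfLE (X.basicOpen_le f)).op).hom = K φ (X.basicOpen f) := by
  apply le_antisymm
  · rw [Ideal.map_le_iff_le_comap]
    exact fun s hs => rs_mem_K φ (X.basicOpen_le f) hs
  · intro t ht
    have h3 := hU.isLocalization_basicOpen f
    obtain ⟨⟨b, _, m, rfl⟩, hb⟩ := IsLocalization.surj (Submonoid.powers f) t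
    have hb' : t * (rs X.presheaf (X.basicOpen_le f) f) ^ m = rs X.presheaf (X.basicOpen_le f) b := by
      rw [← map_pow]
      exact hb
    obtain ⟨n, hn⟩ := exists_pow φ hG hφ hU f b (by
      rw [← hb']
      exact Ideal.mul_mem_right _ _ ht)
    have hu : IsUnit (rs X.presheaf (X.basicOpen_le f) f) := by
      exact RingedSpace.isUnit_res_basicOpen _ f
    have h4 : (rs X.presheaf (X.basicOpen_le f) f) ^ (n + m) * t ∈
        (K φ U).map (X.presheaf.map (homOfLE (X.basicOpen_le f)).op).hom := by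
      have : (rs X.presheaf (X.basicOpen_le f) f) ^ (n + m) * t = rs X.presheaf (X.basicOpen_le f) (f ^ n * b) := by
        rw [map_mul, map_pow, ← hb']
        ring
      rw [this]
      exact Ideal.mem_map_of_mem _ hn
    exact (Ideal.unit_mul_mem_iff_mem _ (hu.pow _)).mp h4

/-- The kernel as a quasi-coherent sheaf of ideals. -/
noncomputable def data : X.IdealSheafData where
  ideal U := K φ U
  map_ideal_basicOpen U f := map_K φ hG hφ U.2 f

end K591.KerData
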