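import Groth.Agent.LRSImm.K591.KerData
import Mathlib.AlgebraicGeometry.Morphisms.ClosedImmersion

/-!
# Closed immersions of locally ringed spaces into schemes
-/

set_option autoImplicit false
universe u

open CategoryTheory TopologicalSpace Opposite TopCat AlgebraicGeometry

namespace K591.Sch

open SheafFac KerData

/-- Two closed immersions of locally ringed spaces with the same kernel are isomorphic. -/
theorem exists_iso_of_ker {Z Z' X : LocallyRingedSpace.{u}} (i : Z ⟶ X) (i' : Z' ⟶ X)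
    (hi : Topology.IsClosedEmbedding i.base) (hs : TopCat.Presheaf.IsLocallySurjective i.c)
    (hi' : Topology.IsClosedEmbedding i'.base) (hs' : TopCat.Presheaf.IsLocallySurjective i'.c)
    (H : ∀ (U : Opens X.toTopCat) (s : X.presheaf.obj (op U)), i.c.app (op U) s = 0 ↔ i'.c.app (op U) s = 0) :
    ∃ e : Z' ≅ Z, e.hom ≫ i = i' := by
  obtain ⟨g, hg⟩ := Fac.exists_lift i hi hs i' (fun U s h => (H U s).mp h)
  obtain ⟨g', hg'⟩ := Fac.exists_lift i' hi' hs' i (fun U s h => (H U s).mpr h)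
  have hm := Fac.mono i hi hs
  have hm' := Fac.mono i' hi' hs'
  exact ⟨⟨g, g', by rw [← cancel_mono i', Category.assoc, hg', hg, Category.id_comp],
    by rw [← cancel_mono i, Category.assoc, hg, hg', Category.id_comp]⟩, hg⟩

variable {X : Scheme.{u}}

theorem exists_affine_le {U : X.Opens} {x : X} (hx : x ∈ U) : ∃ V : X.Opens, IsAffineOpen V ∧ V ≤ U ∧ x ∈ V := by
  obtain ⟨_, ⟨V, hV, rfl⟩, hxV, hVU⟩ :=
    X.isBasis_affineOpens.exists_subset_of_mem_open (show x ∈ (U : Set X) from hx) U.2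
  exact ⟨V, hV, hVU, hxV⟩

theorem isLocallySurjective {Y : Scheme.{u}} (f : Y ⟶ X) [IsClosedImmersion f] :
    TopCat.Presheaf.IsLocallySurjective f.c := by
  rw [TopCat.Presheaf.isLocallySurjective_iff]
  intro U t x hx
  obtain ⟨V, hV, hVU, hxV⟩ := exists_affine_le hx
  obtain ⟨s, hs⟩ := f.app_surjective V hV (Y.presheaf.map ((Opens.map f.base).map (homOfLE hVU)).op t)
  exact ⟨V, hVU, ⟨s, hs⟩, hxV⟩

theorem isClosedEmbedding {Y : Scheme.{u}} (f : Y ⟶ X) [IsClosedImmersion f] :
    Topology.IsClosedEmbedding f.toLRSHom.base := f.isClosedEmbedding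

/-- It is enough to compare kernels on affine opens. -/
theorem ker_iff_of_affine {G G' : TopCat.Presheaf CommRingCat.{u} X} (φ : X.presheaf ⟶ G) (φ' : X.presheaf ⟶ G')
    (hG : G.IsSheaf) (hG' : G'.IsSheaf) (h : ∀ V : X.Opens, IsAffineOpen V → K φ V = K φ' V) (U : X.Opens)
    (s : Γ(X, U)) : φ.app (op U) s = 0 ↔ φ'.app (op U) s = 0 := by
  have key : ∀ {G G' : TopCat.Presheaf CommRingCat.{u} X} (φ : X.presheaf ⟶ G) (φ' : X.presheaf ⟶ G')
    (_ : G'.IsSheaf) (_ : ∀ V : X.Opens, IsAffineOpen V → K φ V ≤ K φ' V), φ.app (op U) s = 0 →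
      φ'.app (op U) s = 0 := by
    intro G G' φ φ' hG' h h0
    refine eq_of_local hG' fun x hx => ?_
    obtain ⟨V, hV, hVU, hxV⟩ := exists_affine_le hx
    refine ⟨V, hVU, hxV, ?_⟩
    rw [← app_rs, map_zero]
    exact h V hV (rs_mem_K φ hVU h0)
  exact ⟨key φ φ' hG' (fun V hV => (h V hV).le), key φ' φ hG (fun V hV => (h V hV).ge)⟩

variable {Z : LocallyRingedSpace.{u}} (i : Z ⟶ X.toLocallyRingedSpace) (hi : LRSImm.IsClosedImmersion i)

theorem isSheaf_push : TopCat.Presheaf.IsSheaf (i.base _* Z.presheaf) :=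
  TopCat.Sheaf.pushforward_sheaf_of_sheaf _ Z.IsSheaf

/-- The ideal sheaf of a closed immersion of locally ringed spaces to a scheme. -/
noncomputable def idealData : X.IdealSheafData :=
  data (X := X) (G := i.base _* Z.presheaf) i.c (isSheaf_push i) (fun x => by
    obtain ⟨U, hx, ι, s, h0, hs⟩ := hi.2.2 x
    exact ⟨U, hx, ι, s, h0, hs⟩)

theorem idealData_ideal (U : X.affineOpens) : (idealData i hi).ideal U = K (X := X) (G := i.base _* Z.presheaf) i.c U :=
  rfl

include hi in
/-- A closed immersion of schemes with the same ideal is isomorphic to the given closed immersion of locally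
ringed spaces. -/
theorem exists_iso {Y : Scheme.{u}} (f : Y ⟶ X) [IsClosedImmersion f] (h : f.ker = idealData i hi) :
    ∃ e : Y.toLocallyRingedSpace ≅ Z, e.hom ≫ i = f.toLRSHom := by
  refine exists_iso_of_ker i f.toLRSHom hi.1 hi.2.1 (isClosedEmbedding f) (isLocallySurjective f) ?_
  refine ker_iff_of_affine (X := X) (G := i.base _* Z.presheaf) (G' := f.base _* Y.presheaf) i.c f.c
    (isSheaf_push i) (TopCat.Sheaf.pushforward_sheaf_of_sheaf _ Y.IsSheaf) (fun V hV => ?_)
  rw [← idealData_ideal i hi ⟨V, hV⟩, ← h, Scheme.Hom.ker_apply]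
  rfl

end K591.Sch
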