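import Mathlib.Topology.Sheaves.LocallySurjective
import Mathlib.Topology.Sheaves.SheafCondition.UniqueGluing
import Mathlib.Algebra.Category.Ring.FilteredColimits
import Mathlib.Algebra.Category.Ring.Limits
import Mathlib.Algebra.Category.Ring.Colimits

/-!
# Factoring morphisms of presheaves of rings through locally surjective ones
-/

set_option autoImplicit false
universe u

open CategoryTheory TopologicalSpace Opposite TopCat

namespace K591.SheafFac

variable {T : TopCat.{u}}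

section sec

variable (H : TopCat.Presheaf CommRingCat.{u} T)

/-- Restriction of sections. -/
def rs {U V : Opens T} (h : V ≤ U) : H.obj (op U) →+* H.obj (op V) := (H.map (homOfLE h).op).hom

theorem rs_rs {U V W : Opens T} (h : V ≤ U) (h' : W ≤ V) (s : H.obj (op U)) :
    rs H h' (rs H h s) = rs H (h'.trans h) s := by
  simp only [rs]
  rw [← ConcreteCategory.comp_apply, ← Functor.map_comp]
  rfl

theorem rs_self {U : Opens T} (h : U ≤ U) (s : H.obj (op U)) : rs H h s = s := by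
  have : (homOfLE h).op = 𝟙 (op U) := rfl
  simp only [rs, this, CategoryTheory.Functor.map_id]
  rfl

theorem app_rs {F G : TopCat.Presheaf CommRingCat.{u} T} (φ : F ⟶ G) {U V : Opens T} (h : V ≤ U) (s : F.obj (op U)) :
    φ.app (op V) (rs F h s) = rs G h (φ.app (op U) s) :=
  ConcreteCategory.congr_hom (φ.naturality (homOfLE h).op) s

variable {H} (hH : H.IsSheaf)

include hH in
theorem eq_of_local {U : Opens T} {s t : H.obj (op U)}
    (h : ∀ x ∈ U, ∃ (V : Opens T) (h : V ≤ U), x ∈ V ∧ rs H h s = rs H h t) : s = t := by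
  choose V hV hx h using h
  exact TopCat.Sheaf.eq_of_locally_eq' ⟨H, hH⟩ (fun x : U => V x.1 x.2) U (fun x => homOfLE (hV x.1 x.2))
    (fun x hxU => Opens.mem_iSup.mpr ⟨⟨x, hxU⟩, hx x hxU⟩) s t (fun x => h x.1 x.2)

include hH in
theorem exists_glue (U : Opens T) {ι : Type u} (V : ι → Opens T) (hV : ∀ i, V i ≤ U)
    (hcov : ∀ x ∈ U, ∃ i, x ∈ V i) (s : ∀ i, H.obj (op (V i)))
    (hs : ∀ i j, rs H (inf_le_left : V i ⊓ V j ≤ V i) (s i) = rs H (inf_le_right : V i ⊓ V j ≤ V j) (s j)) :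
    ∃ t : H.obj (op U), ∀ i, rs H (hV i) t = s i := by
  obtain ⟨t, ht, -⟩ := TopCat.Sheaf.existsUnique_gluing' ⟨H, hH⟩ V U (fun i => homOfLE (hV i))
    (fun x hxU => Opens.mem_iSup.mpr (hcov x hxU)) s (fun i j => hs i j)
  exact ⟨t, ht⟩

end sec

variable {F G H : TopCat.Presheaf CommRingCat.{u} T} (hH : H.IsSheaf) (φ : F ⟶ G) (ψ : F ⟶ H)
  (hφ : TopCat.Presheaf.IsLocallySurjective φ)
  (h : ∀ (U : Opens T) (s : F.obj (op U)), φ.app (op U) s = 0 → ψ.app (op U) s = 0)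

/-- `g` and `r` locally come from the same section of `F`. -/
def Rel {U : Opens T} (g : G.obj (op U)) (r : H.obj (op U)) : Prop :=
  ∀ x ∈ U, ∃ (V : Opens T) (hV : V ≤ U) (t : F.obj (op V)), x ∈ V ∧ φ.app (op V) t = rs G hV g ∧
    ψ.app (op V) t = rs H hV r

variable {φ ψ}

include hH h in
theorem Rel.eq {U : Opens T} {g : G.obj (op U)} {r r' : H.obj (op U)} (h1 : Rel φ ψ g r) (h2 : Rel φ ψ g r') :
    r = r' := by
  refine eq_of_local hH fun x hx => ?_
  obtain ⟨V, hV, t, hxV, e1, e2⟩ := h1 x hx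
  obtain ⟨V', hV', t', hxV', e1', e2'⟩ := h2 x hx
  refine ⟨V ⊓ V', inf_le_left.trans hV, ⟨hxV, hxV'⟩, ?_⟩
  have h3 : φ.app (op (V ⊓ V')) (rs F inf_le_left t - rs F inf_le_right t') = 0 := by
    rw [map_sub, app_rs, app_rs, e1, e1', rs_rs, rs_rs, sub_self]
  have h4 := h _ _ h3
  rw [map_sub, app_rs, app_rs, e2, e2', rs_rs, rs_rs, sub_eq_zero] at h4
  exact h4

theorem Rel.res {U W : Opens T} {g : G.obj (op U)} {r : H.obj (op U)} (h1 : Rel φ ψ g r) (hW : W ≤ U) :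
    Rel φ ψ (rs G hW g) (rs H hW r) := by
  intro x hx
  obtain ⟨V, hV, t, hxV, e1, e2⟩ := h1 x (hW hx)
  refine ⟨W ⊓ V, inf_le_left, rs F inf_le_right t, ⟨hx, hxV⟩, ?_, ?_⟩
  · rw [app_rs, e1, rs_rs, rs_rs]
  · rw [app_rs, e2, rs_rs, rs_rs]

theorem Rel.of {U : Opens T} (s : F.obj (op U)) : Rel φ ψ (φ.app (op U) s) (ψ.app (op U) s) :=
  fun x hx => ⟨U, le_rfl, s, hx, (rs_self _ _ _).symm, (rs_self _ _ _).symm⟩

theorem Rel.binop (o : ∀ (R : CommRingCat.{u}), R → R → R)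
    (ho : ∀ (R S : CommRingCat.{u}) (f : R ⟶ S) (a b : R), f (o R a b) = o S (f a) (f b))
    {U : Opens T} {g g' : G.obj (op U)} {r r' : H.obj (op U)} (h1 : Rel φ ψ g r) (h2 : Rel φ ψ g' r') :
    Rel φ ψ (o _ g g') (o _ r r') := by
  intro x hx
  obtain ⟨V, hV, t, hxV, e1, e2⟩ := h1 x hx
  obtain ⟨V', hV', t', hxV', e1', e2'⟩ := h2 x hx
  refine ⟨V ⊓ V', inf_le_left.trans hV, o _ (rs F inf_le_left t) (rs F inf_le_right t'), ⟨hxV, hxV'⟩, ?_, ?_⟩
  · rw [ho, app_rs, app_rs, e1, e1', rs_rs, rs_rs]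
    exact (ho _ _ (G.map (homOfLE _).op) g g').symm
  · rw [ho, app_rs, app_rs, e2, e2', rs_rs, rs_rs]
    exact (ho _ _ (H.map (homOfLE _).op) r r').symm

include hH hφ h in
theorem Rel.exists {U : Opens T} (g : G.obj (op U)) : ∃ r : H.obj (op U), Rel φ ψ g r := by
  have h1 : ∀ x : U, ∃ (V : Opens T) (hV : V ≤ U) (t : F.obj (op V)), φ.app (op V) t = rs G hV g ∧ x.1 ∈ V := by
    intro x
    obtain ⟨V, hV, ⟨t, ht⟩, hxV⟩ := (TopCat.Presheaf.isLocallySurjective_iff φ).mp hφ U g x.1 x.2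
    exact ⟨V, hV, t, ht, hxV⟩
  choose V hV t ht hxV using h1
  obtain ⟨r, hr⟩ := exists_glue hH U V hV (fun x hx => ⟨⟨x, hx⟩, hxV ⟨x, hx⟩⟩) (fun x => ψ.app (op (V x)) (t x))
    (fun x y => by
      have h3 : φ.app (op (V x ⊓ V y)) (rs F inf_le_left (t x) - rs F inf_le_right (t y)) = 0 := by
        rw [map_sub, app_rs, app_rs, ht, ht, rs_rs, rs_rs, sub_self]
      have h4 := h _ _ h3
      rw [map_sub, app_rs, app_rs, sub_eq_zero] at h4
      exact h4)
  exact ⟨r, fun x hx => ⟨V ⟨x, hx⟩, hV _, t _, hxV _, ht _, (hr _).symm⟩⟩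

include hH hφ h in
/-- A morphism of presheaves of rings killing the kernel of a locally surjective one factors through it, if the
target is a sheaf. -/
theorem exists_fac : ∃ χ : G ⟶ H, φ ≫ χ = ψ := by
  choose Φ hΦ using fun (U : Opens T) (g : G.obj (op U)) => Rel.exists hH hφ h g
  have key : ∀ {U : Opens T} {g : G.obj (op U)} {r : H.obj (op U)}, Rel φ ψ g r → Φ U g = r :=
    fun h1 => Rel.eq hH h (hΦ _ _) h1
  let f : ∀ U : (Opens T)ᵒᵖ, G.obj U →+* H.obj U := fun U =>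
    { toFun := Φ U.unop
      map_one' := key (by simpa using Rel.of (φ := φ) (ψ := ψ) (1 : F.obj (op U.unop)))
      map_zero' := key (by simpa using Rel.of (φ := φ) (ψ := ψ) (0 : F.obj (op U.unop)))
      map_mul' := fun a b => key (Rel.binop (fun R a b => a * b) (fun R S f a b => map_mul f.hom a b)
        (hΦ _ a) (hΦ _ b))
      map_add' := fun a b => key (Rel.binop (fun R a b => a + b) (fun R S f a b => map_add f.hom a b)
        (hΦ _ a) (hΦ _ b)) }
  refine ⟨⟨fun U => CommRingCat.ofHom (f U), fun U V i => ?_⟩, ?_⟩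
  · apply CommRingCat.hom_ext
    ext g
    exact key ((hΦ U.unop g).res i.unop.le)
  ext U s
  exact key (Rel.of s)

include hφ in
/-- Uniqueness of such factorisations. -/
theorem fac_unique (hH : H.IsSheaf) {χ χ' : G ⟶ H} (e : φ ≫ χ = φ ≫ χ') : χ = χ' := by
  ext U g
  refine eq_of_local hH fun x hx => ?_
  obtain ⟨V, hV, ⟨t, ht⟩, hxV⟩ := (TopCat.Presheaf.isLocallySurjective_iff φ).mp hφ U g x hx
  refine ⟨V, hV, hxV, ?_⟩
  rw [← app_rs, ← app_rs]
  have h1 : rs G hV g = φ.app (op V) t := ht.symm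
  rw [h1, ← ConcreteCategory.comp_apply, ← ConcreteCategory.comp_apply, ← NatTrans.comp_app, ← NatTrans.comp_app, e]

end K591.SheafFac
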